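import Groth.Agent.InjHull.K935.LengthCrit
import Groth.Agent.Localalg.MatlisFlat
import Groth.Agent.Localalg.GorFlat
import Groth.Agent.S2498
import Mathlib.RingTheory.LocalRing.Quotient

/-!
# Injective hulls and flat base change with Artinian Gorenstein fibre
-/

set_option autoImplicit false
universe u v

namespace K935.GorFibre

open InjHull Groth.Agent.Localalg IsLocalRing TensorProduct CategoryTheory

section

variable {A : Type u} [CommRing A] [IsLocalRing A] [IsNoetherianRing A]
  {B : Type u} [CommRing B] [IsLocalRing B] [IsNoetherianRing B] [Algebra A B] [Module.Flat A B]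

/-- `Hom_B(B/IB, B ⊗ E) = B ⊗ Hom_A(A/I, E)`. -/
noncomputable def homEquiv (I : Ideal A) (E : Type u) [AddCommGroup E] [Module A E] :
    ((B ⧸ I.map (algebraMap A B)) →ₗ[B] B ⊗[A] E) ≃ₗ[B] B ⊗[A] ((A ⧸ I) →ₗ[A] E) :=
  haveI : Module.FinitePresentation A (A ⧸ I) := Module.finitePresentation_of_finite A _
  (LinearEquiv.congrLeft _ B
    (Algebra.TensorProduct.quotIdealMapEquivTensorQuot B I).toLinearEquiv).trans
    (Module.FinitePresentation.isBaseChange_map A (A ⧸ I) E B).equiv.symm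

theorem length_eq (I : Ideal A) (E : Type u) [AddCommGroup E] [Module A E]
    {f : ResidueField A →ₗ[A] E} (hf : IsInjectiveHull f) (hI : IsFiniteLength A (A ⧸ I)) :
    Module.length B (B ⧸ I.map (algebraMap A B)) =
      Module.length B ((B ⧸ I.map (algebraMap A B)) →ₗ[B] B ⊗[A] E) := by
  refine ((Algebra.TensorProduct.quotIdealMapEquivTensorQuot B I).toLinearEquiv.length_eq).trans ?_
  refine Eq.trans ?_ (homEquiv (B := B) I E).length_eq.symm
  rw [
    Groth.Agent.S2498.length_eq_of_isFiniteLength B _ hI,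
    Groth.Agent.S2498.length_eq_of_isFiniteLength B _ (Matlis.isFiniteLength_dual hf _ hI),
    Matlis.length_dual hf _ hI]

theorem exists_socle {R : Type u} [CommRing R] (hG : LocCoh.IsGorensteinLocalRing R)
    (hArt : IsArtinianRing R) :
    ∃ s : R, s ≠ 0 ∧ (∀ a : R, ¬ IsUnit a → a * s = 0) ∧
      ∀ t : R, (∀ a : R, ¬ IsUnit a → a * t = 0) → ∃ c : R, t = c * s := by
  obtain ⟨n, hn⟩ := LocCoh.IsGorensteinLocalRing.exists_hasInjectiveDimensionLT (A := R)
  have h1 := GorDepth.hasInjectiveDimensionLT_one (ModuleCat.of R R) n hn (fun z hz hr => by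
    have hz' : IsNilpotent z := by
      have := Ring.KrullDimLE.isNilpotent_iff_mem_maximalIdeal (x := z) (R := R)
      exact this.2 hz
    obtain ⟨m, hm⟩ := hz'
    have h2 : IsSMulRegular R (z ^ m) := hr.pow m
    rw [hm] at h2
    have h3 : (1 : R) = 0 := h2.right_eq_zero_of_smul (by simp)
    exact one_ne_zero h3)
  obtain ⟨σ, hσ, hσ'⟩ := GorSocle.exists_socle_generator h1
  refine ⟨σ 1, ?_, ?_, ?_⟩
  · intro h
    have h2 : (1 : R ⧸ maximalIdeal R) = 0 := hσ (h.trans (map_zero σ).symm)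
    have h3 : Nontrivial (R ⧸ maximalIdeal R) :=
      Ideal.Quotient.nontrivial_iff.mpr (maximalIdeal.isMaximal R).ne_top
    exact one_ne_zero h2
  · intro a ha
    have h2 : a • (1 : R ⧸ maximalIdeal R) = 0 := by
      rw [Algebra.smul_def, mul_one]
      exact Ideal.Quotient.eq_zero_iff_mem.2 ((mem_maximalIdeal _).mpr ha)
    rw [← smul_eq_mul, ← map_smul, h2, map_zero]
  · intro t ht
    exact hσ' t fun a ha => ht a ((mem_maximalIdeal _).mp ha)

theorem exists_hull (hG : LocCoh.IsGorensteinLocalRing (B ⧸ (maximalIdeal A).map (algebraMap A B)))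
    (hArt : IsArtinianRing (B ⧸ (maximalIdeal A).map (algebraMap A B)))
    (E : Type u) [AddCommGroup E] [Module A E]
    {f : ResidueField A →ₗ[A] E} (hf : IsInjectiveHull f) :
    ∃ g : ResidueField B →ₗ[B] B ⊗[A] E, IsInjectiveHull g := by
  let J : Ideal B := (maximalIdeal A).map (algebraMap A B)
  have hJne : J ≠ ⊤ := by
    intro h
    have h2 : Nontrivial (B ⧸ J) := inferInstance
    exact (Ideal.Quotient.nontrivial_iff.mp h2) h
  have hJle : J ≤ maximalIdeal B := le_maximalIdeal hJne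
  obtain ⟨k, hk⟩ := exists_maximalIdeal_pow_le_of_isArtinianRing_quotient J
  have hEt := Matlis.isPowerTorsion_hull hf
  have hXJ : LocCoh.IsPowerTorsion J (B ⊗[A] E) := MatlisFlat.isPowerTorsion_baseChange hEt
  have hX : LocCoh.IsPowerTorsion (maximalIdeal B) (B ⊗[A] E) := by
    intro x
    obtain ⟨n, hn⟩ := hXJ x
    refine ⟨k * n, fun a ha => hn a ?_⟩
    rw [pow_mul] at ha
    exact Ideal.pow_right_mono hk n ha
  -- the socle
  let eA : B ⊗[A] ((A ⧸ maximalIdeal A) →ₗ[A] E) ≃ₗ[B] B ⊗[A] (A ⧸ maximalIdeal A) :=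
    (Matlis.homResidueFieldEquiv hf.toIsEssentialInj).baseChange A B _ _
  let τ : (B ⧸ J) ≃ₗ[B] Submodule.torsionBySet B (B ⊗[A] E) (J : Set B) :=
    (Algebra.TensorProduct.quotIdealMapEquivTensorQuot B (maximalIdeal A)).toLinearEquiv.trans
      (eA.symm.trans ((homEquiv (maximalIdeal A) E).symm.trans (GorFlat.homEquivTorsion J _)))
  obtain ⟨s, hs0, hs1, hs2⟩ := exists_socle hG hArt
  have hmb : ∀ a ∈ maximalIdeal B, ¬ IsUnit (Ideal.Quotient.mk J a) := by
    intro a ha hu
    obtain ⟨b, hb⟩ := hu.exists_right_inv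
    obtain ⟨b, rfl⟩ := Ideal.Quotient.mk_surjective b
    rw [← map_mul, ← sub_eq_zero, ← map_one (Ideal.Quotient.mk J), ← map_sub,
      Ideal.Quotient.eq_zero_iff_mem] at hb
    have h1 := hJle hb
    have h2 : (1 : B) ∈ maximalIdeal B := by
      have := (maximalIdeal B).sub_mem (Ideal.mul_mem_right b _ ha) h1
      simp at this
    exact (maximalIdeal.isMaximal B).ne_top ((Ideal.eq_top_iff_one _).mpr h2)
  have hmb' : ∀ a : B ⧸ J, ¬ IsUnit a → ∃ b ∈ maximalIdeal B, Ideal.Quotient.mk J b = a := by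
    intro a ha
    obtain ⟨b, rfl⟩ := Ideal.Quotient.mk_surjective a
    exact ⟨b, (mem_maximalIdeal b).mpr fun h => ha (h.map _), rfl⟩
  let x0 : B ⊗[A] E := (τ s : _)
  have hx0 : x0 ≠ 0 := by
    intro h
    apply hs0
    apply τ.injective
    rw [map_zero]
    exact Subtype.ext h
  have hx1 : ∀ a ∈ maximalIdeal B, a • x0 = 0 := by
    intro a ha
    have h1 : a • s = 0 := hs1 (Ideal.Quotient.mk J a) (hmb a ha)
    have h2 : τ (a • s) = a • τ s := map_smul _ _ _
    rw [h1, map_zero] at h2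
    exact (congrArg Subtype.val h2).symm
  have hx2 : ∀ y : B ⊗[A] E, (∀ a ∈ maximalIdeal B, a • y = 0) → ∃ c : B, y = c • x0 := by
    intro y hy
    let y' : Submodule.torsionBySet B (B ⊗[A] E) (J : Set B) :=
      ⟨y, (Submodule.mem_torsionBySet_iff _ _).mpr fun a => hy a (hJle a.2)⟩
    obtain ⟨c, hc⟩ := hs2 (τ.symm y') (by
      intro a ha
      obtain ⟨b, hb, rfl⟩ := hmb' a ha
      have h1 : Ideal.Quotient.mk J b * τ.symm y' = b • τ.symm y' := rfl
      rw [h1, ← map_smul]
      have h2 : b • y' = 0 := Subtype.ext (hy b hb)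
      rw [h2, map_zero])
    obtain ⟨c, rfl⟩ := Ideal.Quotient.mk_surjective c
    refine ⟨c, ?_⟩
    have h3 : τ.symm y' = c • s := hc
    rw [LinearEquiv.symm_apply_eq, map_smul] at h3
    exact congrArg Subtype.val h3
  let g : ResidueField B →ₗ[B] B ⊗[A] E := Submodule.liftQ (maximalIdeal B)
    (LinearMap.toSpanSingleton B _ x0) (fun a ha => by simpa using hx1 a ha)
  have hg1 : ∀ b : B, g (Submodule.Quotient.mk b) = b • x0 := fun b => by
    change (LinearMap.toSpanSingleton B _ x0) b = _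
    simp
  have hs : IsSimpleModule B (ResidueField B) :=
    (isSimpleModule_iff_quot_maximal).2 ⟨maximalIdeal B, inferInstance, ⟨LinearEquiv.refl _ _⟩⟩
  have hg0 : g ≠ 0 := by
    intro h
    have := hg1 1
    rw [h, one_smul] at this
    exact hx0 this.symm
  have hginj : Function.Injective g := (LinearMap.injective_or_eq_zero g).resolve_right hg0
  have hess : IsEssentialInj g := by
    rw [InjHull.isEssentialInj_iff]
    refine ⟨hginj, fun x hx => ?_⟩
    obtain ⟨r, hr0, hr⟩ := Matlis.exists_smul_mem_socle hX hx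
    obtain ⟨c, hc⟩ := hx2 (r • x) hr
    exact ⟨r, hr0, Submodule.Quotient.mk c, by rw [hg1, hc]⟩
  refine ⟨g, { toIsEssentialInj := hess, isInjective := ?_ }⟩
  refine LengthCrit.isInjective_of_length (B ⊗[A] E) hess
    (fun n => (maximalIdeal A ^ n).map (algebraMap A B)) (fun n => ⟨k * n, ?_⟩) (fun N => ⟨N, ?_⟩)
    (fun n => length_eq (maximalIdeal A ^ n) E hf (Matlis.isFiniteLength_quotient_pow n))
  · rw [pow_mul, Ideal.map_pow]
    exact Ideal.pow_right_mono hk n
  · rw [Ideal.map_pow]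
    exact Ideal.pow_right_mono hJle N

end

end K935.GorFibre
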