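import Groth.Agent.Localalg.Matlis3

/-!
# A length criterion for an injective hull of the residue field
-/

set_option autoImplicit false
universe u v

namespace K935.LengthCrit

open InjHull Groth.Agent.Localalg IsLocalRing

variable {A : Type u} [CommRing A] [IsLocalRing A]

/-- A power torsion module with one-dimensional socle is an essential extension of the residue field. -/
theorem exists_isEssentialInj (W : Type u) [AddCommGroup W] [Module A W]
    (hW : LocCoh.IsPowerTorsion (IsLocalRing.maximalIdeal A) W)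
    (e : (IsLocalRing.ResidueField A →ₗ[A] W) ≃ₗ[A] IsLocalRing.ResidueField A) [IsNoetherianRing A] :
    ∃ g : IsLocalRing.ResidueField A →ₗ[A] W, InjHull.IsEssentialInj g := by
  let g := e.symm 1
  have hg0 : g ≠ 0 := by
    intro h
    have h1 := congr_arg e h
    simp [g] at h1
  have hs : IsSimpleModule A (IsLocalRing.ResidueField A) :=
    (isSimpleModule_iff_quot_maximal).2
      ⟨IsLocalRing.maximalIdeal A, inferInstance, ⟨LinearEquiv.refl _ _⟩⟩
  have hginj : Function.Injective g := (LinearMap.injective_or_eq_zero g).resolve_right hg0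
  refine ⟨g, InjHull.isEssentialInj_iff.2 ⟨hginj, fun x hx ↦ ?_⟩⟩
  obtain ⟨r, hr0, hr⟩ := Matlis.exists_smul_mem_socle hW hx
  refine ⟨r, hr0, ?_⟩
  let h : IsLocalRing.ResidueField A →ₗ[A] W :=
    Submodule.liftQ (IsLocalRing.maximalIdeal A) (LinearMap.toSpanSingleton A W (r • x))
      (fun a ha ↦ by simpa using hr a ha)
  obtain ⟨a, ha⟩ := IsLocalRing.residue_surjective (e h)
  have h1 : h = a • g := by
    apply e.injective
    rw [map_smul, ← ha]
    simp only [g, LinearEquiv.apply_symm_apply]
    rw [Algebra.smul_def, mul_one]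
    rfl
  refine ⟨a • 1, ?_⟩
  have h2 : h 1 = r • x := by
    change (LinearMap.toSpanSingleton A W (r • x)) 1 = r • x
    simp
  rw [← h2, h1]
  simp

/-- The length criterion: a power torsion essential extension `W` of the residue field with
`length (A/a_n) = length Hom(A/a_n, W)` for a cofinal system of ideals `a_n` is injective. -/
theorem isInjective_of_length [IsNoetherianRing A] (W : Type u) [AddCommGroup W] [Module A W]
    {g : ResidueField A →ₗ[A] W} (hg : IsEssentialInj g) (a : ℕ → Ideal A)
    (hcof : ∀ n : ℕ, ∃ N : ℕ, maximalIdeal A ^ N ≤ a n)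
    (hcof' : ∀ N : ℕ, ∃ n : ℕ, a n ≤ maximalIdeal A ^ N)
    (hlen : ∀ n : ℕ, Module.length A (A ⧸ a n) = Module.length A ((A ⧸ a n) →ₗ[A] W)) :
    Module.Injective A W := by
  obtain ⟨E, _, _, f, hf⟩ := InjHull.exists_injective_hull (R := A) (M := ResidueField A)
  obtain ⟨α, hα⟩ := Matlis.exists_extend hf.isInjective g hg.injective f
  have hαinj : Function.Injective α := InjHull.injective_of_comp hg (by rw [hα]; exact hf.injective)
  have hE := Matlis.isPowerTorsion_hull hf
  have hsurj : Function.Surjective α := by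
    intro x
    obtain ⟨N, hN⟩ := hE x
    obtain ⟨n, hn⟩ := hcof' N
    obtain ⟨N', hN'⟩ := hcof n
    have hfl : IsFiniteLength A (A ⧸ a n) := by
      have h1 := Matlis.isFiniteLength_quotient_pow (R := A) N'
      rw [← Module.length_ne_top_iff] at h1 ⊢
      have h2 := Module.length_le_of_surjective (Submodule.factor hN' : (A ⧸ maximalIdeal A ^ N') →ₗ[A] (A ⧸ a n))
        (Submodule.factor_surjective hN')
      intro h3
      rw [h3] at h2
      exact h1 (top_le_iff.mp h2)
    -- the map `Hom(A/a_n, W) → Hom(A/a_n, E)`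
    let φ : ((A ⧸ a n) →ₗ[A] W) →ₗ[A] ((A ⧸ a n) →ₗ[A] E) := LinearMap.compRight A α
    have hφ : Function.Injective φ := by
      intro b c hbc
      ext
      apply hαinj
      exact LinearMap.congr_fun hbc _
    have hl1 := Matlis.length_dual hf (A ⧸ a n) hfl
    have hfl2 := Matlis.isFiniteLength_dual hf (A ⧸ a n) hfl
    have h3 := Module.length_eq_add_of_exact φ (LinearMap.range φ).mkQ hφ
      (Submodule.mkQ_surjective _) (LinearMap.exact_map_mkQ_range _)
    rw [hl1, ← hlen n] at h3
    have h4 : Module.length A (A ⧸ a n) ≠ ⊤ := Module.length_ne_top_iff.mpr hfl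
    have h5 : Module.length A (((A ⧸ a n) →ₗ[A] E) ⧸ LinearMap.range φ) = 0 := by
      have h6 : Module.length A (A ⧸ a n) + 0 = Module.length A (A ⧸ a n) +
          Module.length A (((A ⧸ a n) →ₗ[A] E) ⧸ LinearMap.range φ) := by
        rw [add_zero]; exact h3
      exact (WithTop.add_left_cancel h4 h6).symm
    rw [Module.length_eq_zero_iff, Submodule.Quotient.subsingleton_iff] at h5
    have hφs := LinearMap.range_eq_top.mp h5
    let ψ : (A ⧸ a n) →ₗ[A] E := (a n).liftQ (LinearMap.toSpanSingleton A E x)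
      (fun b hb => by simpa using hN b (hn hb))
    obtain ⟨χ, hχ⟩ := hφs ψ
    refine ⟨χ (Submodule.Quotient.mk 1), ?_⟩
    have h7 := LinearMap.congr_fun hχ (Submodule.Quotient.mk 1)
    refine h7.trans ?_
    change (LinearMap.toSpanSingleton A E x) 1 = x
    simp
  let eα : W ≃ₗ[A] E := LinearEquiv.ofBijective α ⟨hαinj, hsurj⟩
  exact InjHull.injective_of_equiv hf.isInjective eα

/-- The length criterion. -/
theorem exists_isInjectiveHull [IsNoetherianRing A] (W : Type u) [AddCommGroup W] [Module A W]
    (hW : LocCoh.IsPowerTorsion (maximalIdeal A) W)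
    (e : (ResidueField A →ₗ[A] W) ≃ₗ[A] ResidueField A) (a : ℕ → Ideal A)
    (hcof : ∀ n : ℕ, ∃ N : ℕ, maximalIdeal A ^ N ≤ a n)
    (hcof' : ∀ N : ℕ, ∃ n : ℕ, a n ≤ maximalIdeal A ^ N)
    (hlen : ∀ n : ℕ, Module.length A (A ⧸ a n) = Module.length A ((A ⧸ a n) →ₗ[A] W)) :
    ∃ f : ResidueField A →ₗ[A] W, IsInjectiveHull f := by
  obtain ⟨g, hg⟩ := exists_isEssentialInj W hW e
  exact ⟨g, { toIsEssentialInj := hg, isInjective := isInjective_of_length W hg a hcof hcof' hlen }⟩

end K935.LengthCrit
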